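import Mathlib

/-!
# The tilde functor is exact
-/

set_option autoImplicit false
set_option linter.style.haveILetI false

universe u

open CategoryTheory CategoryTheory.Limits AlgebraicGeometry Opposite TopologicalSpace

noncomputable section

namespace Groth.Agent.TildeD

variable {R : CommRingCat.{u}}

set_option backward.isDefEq.respectTransparency.types false in
theorem injective_tilde_map_app {M N : ModuleCat.{u} R} (f : M ⟶ N) (hf : Function.Injective f)
    (U : (Spec (CommRingCat.of R)).Opens) : Function.Injective ((tilde.map f).app U) := by
  intro s t h
  refine Subtype.ext (funext fun y => ?_)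
  exact IsLocalizedModule.map_injective y.1.asIdeal.primeCompl
    (LocalizedModule.mkLinearMap y.1.asIdeal.primeCompl M)
    (LocalizedModule.mkLinearMap y.1.asIdeal.primeCompl N) f.hom hf
    (congrFun (congrArg Subtype.val h) y)

theorem mono_tilde_map {M N : ModuleCat.{u} R} (f : M ⟶ N) [Mono f] : Mono (tilde.map f) := by
  haveI : Mono (tilde.map f).mapPresheaf := by
    rw [NatTrans.mono_iff_mono_app]
    exact fun U => (AddCommGrpCat.mono_iff_injective _).mpr
      (injective_tilde_map_app f ((ModuleCat.mono_iff_injective f).1 inferInstance) U.unop)
  exact (Scheme.Modules.toPresheaf _).mono_of_mono_map (f := tilde.map f) this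

theorem preservesFiniteLimits_tilde : PreservesFiniteLimits (tilde.functor R) := by
  haveI : (tilde.functor R).Additive := ⟨fun {M N f g} => tilde.map_add f g⟩
  haveI : PreservesColimitsOfSize.{u, u} (tilde.functor R) := tilde.adjunction.leftAdjoint_preservesColimits
  haveI : PreservesColimitsOfSize.{0, 0} (tilde.functor R) := preservesColimitsOfSize_shrink _
  haveI : PreservesFiniteColimits (tilde.functor R) := PreservesColimitsOfSize.preservesFiniteColimits _
  haveI : (tilde.functor R).PreservesMonomorphisms := ⟨fun f => mono_tilde_map f⟩
  refine (Functor.preservesFiniteLimits_iff_forall_exact_map_and_mono (tilde.functor R)).2 fun S hS => ?_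
  haveI := hS.mono_f
  haveI := hS.epi_g
  exact ⟨hS.exact.map_of_epi_of_preservesCokernel (tilde.functor R) hS.epi_g inferInstance,
    inferInstanceAs (Mono ((tilde.functor R).map S.f))⟩

end Groth.Agent.TildeD
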