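import Groth.Agent.TildeD.Main
import Groth.Agent.TildeD.Exact
import Groth.Agent.TildeLpull.Main
import Groth.Agent.DCohLib.PullPerf
import Groth.Agent.QCohLib.Criterion

/-!
# Derived inverse images preserve quasi-coherence of cohomology
-/

set_option autoImplicit false
set_option linter.style.haveILetI false

universe u

open CategoryTheory Limits AlgebraicGeometry TopologicalSpace

attribute [local instance] HasDerivedCategory.standard

noncomputable section

namespace Groth.Agent.TildeD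

open Groth.Agent.DCohLib

theorem isQCohD_of_iso {X : Scheme.{u}} {K L : DCoh.D X} (e : K ≅ L) (h : DCoh.IsQCohD K) :
    DCoh.IsQCohD L := fun i =>
  (SheafOfModules.isQuasicoherent X.ringCatSheaf).prop_of_iso
    ((DerivedCategory.homologyFunctor X.Modules i).mapIso e) (h i)

section Affine

variable {A B : Type u} [CommRing A] [CommRing B] (φ : A →+* B)

/-- Pullback of a K-flat complex with quasi-coherent cohomology along a map of affine schemes. -/
theorem isQCohD_pull_affine (P : CochainComplex (Spec (CommRingCat.of A)).Modules ℤ)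
    (hP : DCoh.IsKFlat P) (hfl : ∀ i, FlatMod.IsFlat (P.X i))
    (h : DCoh.IsQCohD (DCoh.toD _ P)) :
    DCoh.IsQCohD (DCoh.toD _
      ((Groth.Agent.DCohLib.pullCx (Groth.Agent.TildeLpull.specMap φ)).obj P)) := by
  haveI : PreservesFiniteLimits (tilde.functor (CommRingCat.of A)) := preservesFiniteLimits_tilde
  haveI : PreservesFiniteLimits (tilde.functor (CommRingCat.of B)) := preservesFiniteLimits_tilde
  obtain ⟨M, ⟨eM⟩⟩ := ((main (CommRingCat.of A)).2.2 _).1 h
  let L := (TildeLpull.resM A).obj (DerivedCategory.Q.objPreimage M)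
  haveI hL := TildeLpull.quasiIso_resMπ A (DerivedCategory.Q.objPreimage M)
  let eL : DerivedCategory.Q.obj L ≅ M :=
    (TildeLpull.resQIso (A := A)).app (DerivedCategory.Q.objPreimage M) ≪≫
      DerivedCategory.Q.objObjPreimageIso M
  let e₁ : DerivedCategory.Q.obj ((TildeLpull.tilCx (CommRingCat.of A)).obj L) ≅ DCoh.toD _ P :=
    ((TildeLpull.tildeDFactors (CommRingCat.of A)).app L).symm ≪≫
      (DCoh.tildeD (CommRingCat.of A)).mapIso eL ≪≫ eM
  let e₂ : DCoh.toD _ ((Groth.Agent.DCohLib.pullCx (TildeLpull.specMap φ)).obj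
      ((TildeLpull.tilCx (CommRingCat.of A)).obj L)) ≅
      DCoh.toD _ ((Groth.Agent.DCohLib.pullCx (TildeLpull.specMap φ)).obj P) :=
    (lpullIso (TildeLpull.specMap φ) _
      (TildeLpull.isKFlat_tilCx L (TildeLpull.isKFlat_resM A _))
      (TildeLpull.isFlat_tilCx L (TildeLpull.flat_resM A _))).symm ≪≫
      (DCoh.Lpull (TildeLpull.specMap φ)).mapIso e₁ ≪≫ lpullIso (TildeLpull.specMap φ) P hP hfl
  refine isQCohD_of_iso (?_ ≪≫ e₂) (isQCohD_tildeD (CommRingCat.of B)
    (DerivedCategory.Q.obj ((TildeLpull.extCx φ).obj L)))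
  exact (TildeLpull.tildeDFactors (CommRingCat.of B)).app ((TildeLpull.extCx φ).obj L) ≪≫
    DerivedCategory.Q.mapIso ((TildeLpull.tilPullCxIso φ).app L).symm

end Affine

section Restrict

variable {X U : Scheme.{u}} (j : U ⟶ X) [IsOpenImmersion j]

/-- Cohomology commutes with restriction. -/
def restrictHDIso (i : ℤ) (K : DCoh.D X) :
    DCoh.HD ((DCoh.restrictD j).obj K) i ≅ (DCoh.HD K i).restrict j :=
  (nu (Scheme.Modules.restrictFunctor j) i).app K

theorem isQCohD_restrict (K : DCoh.D X) (h : DCoh.IsQCohD K) :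
    DCoh.IsQCohD ((DCoh.restrictD j).obj K) := fun i => by
  haveI : (DCoh.HD K i).IsQuasicoherent := h i
  exact (SheafOfModules.isQuasicoherent U.ringCatSheaf).prop_of_iso (restrictHDIso j i K).symm
    (Scheme.Modules.isQuasicoherent_restrictFunctor j (DCoh.HD K i))

end Restrict

variable {X : Scheme.{u}}

/-- Quasi-coherence is local on affine opens. -/
theorem isQCoh_of_restrict (M : X.Modules) {ι : Type u} (W : ι → X.Opens)
    (hW : ∀ a, IsAffineOpen (W a)) (hcov : ⨆ a, W a = ⊤)
    (h : ∀ a, Coh.IsQCoh (M.restrict (hW a).fromSpec)) : Coh.IsQCoh M := by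
  have hiso : ∀ a, IsIso (Scheme.Modules.fromTildeΓ (M.restrict (hW a).fromSpec)) := fun a =>
    haveI : (M.restrict (hW a).fromSpec).IsQuasicoherent := h a
    Scheme.Modules.isIso_fromTildeΓ_of_isQuasicoherent (R := Γ(X, W a)) _
  let P : ∀ a, (M.restrict (W a).ι).Presentation := fun a =>
    SheafOfModules.Presentation.ofIsIso.{u, u, u}
      (((Scheme.Modules.restrictFunctorComp (hW a).isoSpec.hom (hW a).fromSpec).symm ≪≫
        Scheme.Modules.restrictFunctorCongr (hW a).isoSpec_hom_fromSpec).app M).hom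
      (Scheme.Modules.presentationRestrict (hW a).isoSpec.hom
        (SheafOfModules.Presentation.ofIsIso.{u, u, u}
          (@asIso _ _ _ _ (Scheme.Modules.fromTildeΓ (M.restrict (hW a).fromSpec)) (hiso a)).hom
          (presentationTilde.{u} _ .univ (by simp) _ (Submodule.span_eq _))))
  exact SheafOfModules.QuasicoherentData.isQuasicoherent (R := X.ringCatSheaf) (M := M)
    { I := ι
      X := W
      coversTop := by
        rw [Opens.coversTop_iff, IsOpenCover]
        exact hcov
      presentation := fun a => QCohLib.presentationOver M (W a) (P a) }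

variable {Y : Scheme.{u}} (f : X ⟶ Y) [DCoh.HasLpull f]

/-- Inverse image commutes with restriction along open immersions. -/
def pullResIso' {U V : Scheme.{u}} (i : U ⟶ X) (j : V ⟶ Y) [IsOpenImmersion i] [IsOpenImmersion j]
    (g : U ⟶ V) (h : g ≫ j = i ≫ f) :
    Groth.Agent.DCohLib.pullCx f ⋙ resCx i ≅ resCx j ⋙ Groth.Agent.DCohLib.pullCx g :=
  NatIso.mapHomologicalComplex
    (Functor.isoWhiskerLeft _ (Scheme.Modules.restrictFunctorIsoPullback i) ≪≫
      Scheme.Modules.pullbackComp i f ≪≫ Scheme.Modules.pullbackCongr h.symm ≪≫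
      (Scheme.Modules.pullbackComp g j).symm ≪≫
      Functor.isoWhiskerRight (Scheme.Modules.restrictFunctorIsoPullback j).symm _)
    (ComplexShape.up ℤ)

/-- Derived inverse images preserve objects with quasi-coherent cohomology. -/
theorem isQCohD_lpull (K : DCoh.D Y) (hK : DCoh.IsQCohD K) : DCoh.IsQCohD ((DCoh.Lpull f).obj K) := by
  have hex : ∀ x : X, ∃ V : Y.Opens, IsAffineOpen V ∧ ∃ W : X.Opens, IsAffineOpen W ∧ x ∈ W ∧
      W ≤ f ⁻¹ᵁ V := fun x => by
    obtain ⟨V, hV, hx, -⟩ := Opens.isBasis_iff_nbhd.1 Y.isBasis_affineOpens (Opens.mem_top (f x))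
    obtain ⟨W, hW, hxW, hWV⟩ := Opens.isBasis_iff_nbhd.1 X.isBasis_affineOpens
      (show x ∈ f ⁻¹ᵁ V from hx)
    exact ⟨V, hV, W, hW, hxW, hWV⟩
  choose V hV W hW hxW hWV using hex
  intro i
  refine isQCoh_of_restrict _ W hW (eq_top_iff.mpr fun x _ => Opens.mem_iSup.mpr ⟨x, hxW x⟩) fun a => ?_
  let g : Spec Γ(X, W a) ⟶ Spec Γ(Y, V a) := IsOpenImmersion.lift (hV a).fromSpec
    ((hW a).fromSpec ≫ f) (by
      rintro _ ⟨z, rfl⟩
      rw [(hV a).range_fromSpec]
      exact hWV a (by
        have : (hW a).fromSpec z ∈ Set.range (hW a).fromSpec := ⟨z, rfl⟩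
        rwa [(hW a).range_fromSpec] at this))
  have hg : g ≫ (hV a).fromSpec = (hW a).fromSpec ≫ f := IsOpenImmersion.lift_fac _ _ _
  obtain ⟨φ, hφ⟩ : ∃ φ : Γ(Y, V a) →+* Γ(X, W a), g = TildeLpull.specMap φ :=
    ⟨(Spec.preimage g).hom, (Spec.map_preimage g).symm⟩
  let R := (resX Y).obj (DerivedCategory.Q.objPreimage K)
  have hR := isKFlat_resCx_resX (hV a).fromSpec (DerivedCategory.Q.objPreimage K)
  have hq : DCoh.IsQCohD (DCoh.toD _ ((resCx (hV a).fromSpec).obj R)) :=
    isQCohD_of_iso (((DCoh.restrictD (hV a).fromSpec).mapIso (resXIso K)).symm ≪≫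
      restrictDQ (hV a).fromSpec R) (isQCohD_restrict _ K hK)
  have h1 := isQCohD_pull_affine φ _ hR.1 hR.2 hq
  rw [← hφ] at h1
  have h2 : DCoh.IsQCohD ((DCoh.restrictD (hW a).fromSpec).obj ((DCoh.Lpull f).obj K)) :=
    isQCohD_of_iso (DerivedCategory.Q.mapIso ((pullResIso' f (hW a).fromSpec (hV a).fromSpec g hg).app R).symm ≪≫
      (restrictDQ (hW a).fromSpec _).symm ≪≫
      (DCoh.restrictD (hW a).fromSpec).mapIso
        ((lpullIso f R (isKFlat_resX _) (isFlat_resX _)).symm ≪≫ (DCoh.Lpull f).mapIso (resXIso K))) h1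
  exact (SheafOfModules.isQuasicoherent (Spec Γ(X, W a)).ringCatSheaf).prop_of_iso
    (restrictHDIso (hW a).fromSpec i ((DCoh.Lpull f).obj K)) (h2 i)

end Groth.Agent.TildeD
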