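import Groth.Agent.TildeD.QCohPull
import Groth.Agent.DCohLib.TensorEval
import Groth.Agent.DCohLib.TensorPull
import Groth.Agent.DCohLib.QCohAbelian

/-!
# Derived tensor products preserve quasi-coherence of cohomology
-/

set_option autoImplicit false
set_option backward.isDefEq.respectTransparency false
set_option linter.style.haveILetI false

universe u

open CategoryTheory CategoryTheory.Limits AlgebraicGeometry TopologicalSpace

attribute [local instance] HasDerivedCategory.standard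

noncomputable section

namespace Groth.Agent.TildeD

open Groth.Agent.DCohLib

section Affine

variable {R : CommRingCat.{u}}

theorem isQCoh_tilde (N : ModuleCat.{u} R) : Coh.IsQCoh ((tilde.functor R).obj N) :=
  inferInstanceAs ((tilde.functor R).obj N).IsQuasicoherent

/-- Coproducts of quasi-coherent modules on an affine scheme are quasi-coherent. -/
theorem isQCoh_sigma {ι : Type} (f : ι → (Spec R).Modules) [HasCoproduct f] (h : ∀ i, Coh.IsQCoh (f i)) :
    Coh.IsQCoh (∐ f) := by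
  choose N hN using fun i => haveI := h i; qcoh_exists_tilde R (f i)
  haveI : PreservesColimitsOfSize.{0, 0} (tilde.functor R) :=
    haveI : PreservesColimitsOfSize.{u, u} (tilde.functor R) := tilde.adjunction.leftAdjoint_preservesColimits
    preservesColimitsOfSize_shrink _
  exact isQCoh_of_iso' (PreservesCoproduct.iso (tilde.functor R) N ≪≫ Sigma.mapIso fun i => (hN i).some)
    (isQCoh_tilde (∐ N))

/-- Coproducts, as a colimit over a discrete category of arbitrary small index. -/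
theorem isQCoh_sigma' {ι : Type u} (f : ι → (Spec R).Modules) [HasCoproduct f] (h : ∀ i, Coh.IsQCoh (f i)) :
    Coh.IsQCoh (∐ f) := by
  choose N hN using fun i => haveI := h i; qcoh_exists_tilde R (f i)
  haveI : PreservesColimitsOfSize.{u, u} (tilde.functor R) := tilde.adjunction.leftAdjoint_preservesColimits
  exact isQCoh_of_iso' (PreservesCoproduct.iso (tilde.functor R) N ≪≫ Sigma.mapIso fun i => (hN i).some)
    (isQCoh_tilde (∐ N))

/-- The tensor product of quasi-coherent modules on an affine scheme is quasi-coherent. -/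
theorem isQCoh_tensorBi_tilde (M : (Spec R).Modules) (hM : Coh.IsQCoh M) (N : ModuleCat.{u} R) :
    Coh.IsQCoh (((DCoh.tensorBi (X := Spec R)).obj M).obj ((tilde.functor R).obj N)) := by
  let Φ : ModuleCat.{u} R ⥤ (Spec R).Modules := tilde.functor R ⋙ (DCoh.tensorBi (X := Spec R)).obj M
  haveI : PreservesColimitsOfSize.{u, u} Φ := TildeKFlat.preservesColimits_tensTil_obj R M
  haveI : Φ.Additive := TildeKFlat.additive_tensTil_obj R M
  show Coh.IsQCoh (Φ.obj N)
  have h1 : Coh.IsQCoh (Φ.obj (ModuleCat.of R R)) :=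
    isQCoh_of_iso' (((DCoh.tensorBi (X := Spec R)).obj M).mapIso tildeSelf).symm
      (isQCoh_of_iso' ((Groth.Agent.ModTensor.tensorUnitRight (Spec R).sheaf).app M).symm hM)
  have hfree : ∀ ι : Type u, Coh.IsQCoh (Φ.obj ((ModuleCat.free R).obj ι)) := fun ι => by
    haveI : PreservesColimitsOfSize.{u, u} (ModuleCat.free R) :=
      (ModuleCat.adj R).leftAdjoint_preservesColimits
    let e : ((ModuleCat.free R).obj ι) ≅ ∐ fun _ : ι => ModuleCat.of R R :=
      (coproductIsCoproduct fun _ : ι => ModuleCat.of R R).coconePointUniqueUpToIso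
        (ModuleCat.finsuppCoconeIsColimit R R ι) |>.symm
    exact isQCoh_of_iso' (Φ.mapIso e ≪≫ PreservesCoproduct.iso Φ _).symm
      (isQCoh_sigma' _ fun _ => h1)
  let π : (ModuleCat.free R).obj N ⟶ N := ModuleCat.freeDesc (↾fun n => n)
  let π' : (ModuleCat.free R).obj (kernel π : ModuleCat.{u} R) ⟶ kernel π := ModuleCat.freeDesc (↾fun n => n)
  haveI : Epi π := (ModuleCat.epi_iff_surjective _).2 fun n => ⟨ModuleCat.freeMk n, ModuleCat.freeDesc_apply _ n⟩
  haveI : Epi π' := (ModuleCat.epi_iff_surjective _).2 fun n => ⟨ModuleCat.freeMk n, ModuleCat.freeDesc_apply _ n⟩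
  let e : cokernel (π' ≫ kernel.ι π) ≅ N := cokernelEpiComp π' (kernel.ι π) ≪≫
    (cokernelIsCokernel _).coconePointUniqueUpToIso
      (Abelian.epiIsCokernelOfKernel (KernelFork.ofι _ (kernel.condition π)) (kernelIsKernel π))
  exact isQCoh_of_iso' ((PreservesCokernel.iso Φ (π' ≫ kernel.ι π)).symm ≪≫ Φ.mapIso e)
    (Groth.Agent.QCohLib.isQCoh_image _ (hfree _) (hfree _)).2

theorem isQCoh_tensorBi (M N : (Spec R).Modules) (hM : Coh.IsQCoh M) (hN : Coh.IsQCoh N) :
    Coh.IsQCoh (((DCoh.tensorBi (X := Spec R)).obj M).obj N) := by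
  obtain ⟨N', ⟨e⟩⟩ := haveI := hN; qcoh_exists_tilde R N
  exact isQCoh_of_iso' (((DCoh.tensorBi (X := Spec R)).obj M).mapIso e) (isQCoh_tensorBi_tilde M hM N')

theorem isQCohD_of_terms {X : Scheme.{u}} (K : CochainComplex X.Modules ℤ) (h : ∀ n, Coh.IsQCoh (K.X n)) :
    DCoh.IsQCohD (DCoh.toD X K) := fun i => by
  haveI : ∀ (M N : X.Modules) (g : M ⟶ N), HasCokernel g := fun _ _ _ => inferInstance
  let S := K.sc i
  have hc : Coh.IsQCoh S.cycles :=
    isQCoh_of_iso' S.cyclesIsoKernel.symm (Groth.Agent.QCohLib.isQCoh_image S.g (h _) (h _)).1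
  exact isQCoh_of_iso'
    ((IsColimit.coconePointUniqueUpToIso (cokernelIsCokernel S.toCycles) S.homologyIsCokernel) ≪≫
      ((DerivedCategory.homologyFunctorFactors X.Modules i).app K).symm)
    (Groth.Agent.QCohLib.isQCoh_image S.toCycles (h _) hc).2

theorem isQCohD_tensor_tilCx {A : Type u} [CommRing A] (K L : CochainComplex (ModuleCat.{u} A) ℤ) :
    DCoh.IsQCohD (DCoh.toD _ ((DCoh.tensorCx.obj ((TildeLpull.tilCx (CommRingCat.of A)).obj K)).obj
      ((TildeLpull.tilCx (CommRingCat.of A)).obj L))) :=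
  isQCohD_of_terms _ fun _ => isQCoh_sigma _ fun _ => isQCoh_tensorBi _ _ (isQCoh_tilde _) (isQCoh_tilde _)

/-- The tensor product of complexes is symmetric. -/
def tensorCxSymm {X : Scheme.{u}} (L K : CochainComplex X.Modules ℤ) :
    (DCoh.tensorCx.obj L).obj K ≅ (DCoh.tensorCx.obj K).obj L :=
  totIso (symmIso X.sheaf) L K ≪≫ (Groth.Agent.KFlat.totRIso (ModSite.tensorBi X.sheaf) L).app K

theorem isQCohD_tensor_affine {A : Type u} [CommRing A]
    (P Q : CochainComplex (Spec (CommRingCat.of A)).Modules ℤ) (hP : DCoh.IsKFlat P) (hQ : DCoh.IsKFlat Q)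
    (hP' : DCoh.IsQCohD (DCoh.toD _ P)) (hQ' : DCoh.IsQCohD (DCoh.toD _ Q)) :
    DCoh.IsQCohD (DCoh.toD _ ((DCoh.tensorCx.obj P).obj Q)) := by
  haveI : PreservesFiniteLimits (tilde.functor (CommRingCat.of A)) := preservesFiniteLimits_tilde
  have hres : ∀ (W : CochainComplex (Spec (CommRingCat.of A)).Modules ℤ), DCoh.IsQCohD (DCoh.toD _ W) →
      ∃ L : CochainComplex (ModuleCat.{u} A) ℤ,
        DCoh.IsKFlat ((TildeLpull.tilCx (CommRingCat.of A)).obj L) ∧
          Nonempty (DerivedCategory.Q.obj ((TildeLpull.tilCx (CommRingCat.of A)).obj L) ≅ DCoh.toD _ W) := by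
    intro W hW
    obtain ⟨M, ⟨eM⟩⟩ := ((main (CommRingCat.of A)).2.2 _).1 hW
    let L := (TildeLpull.resM A).obj (DerivedCategory.Q.objPreimage M)
    let eL : DerivedCategory.Q.obj L ≅ M :=
      (TildeLpull.resQIso (A := A)).app (DerivedCategory.Q.objPreimage M) ≪≫
        DerivedCategory.Q.objObjPreimageIso M
    exact ⟨L, TildeLpull.isKFlat_tilCx L (TildeLpull.isKFlat_resM A _),
      ⟨((TildeLpull.tildeDFactors (CommRingCat.of A)).app L).symm ≪≫
        (DCoh.tildeD (CommRingCat.of A)).mapIso eL ≪≫ eM⟩⟩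
  obtain ⟨K, hK, ⟨eK⟩⟩ := hres P hP'
  obtain ⟨L, hL, ⟨eL⟩⟩ := hres Q hQ'
  haveI : ∀ (E : CochainComplex (Spec (CommRingCat.of A)).Modules ℤ), DCoh.HasLTensorCx E :=
    fun E => hasLTensorCx E
  have key : ∀ (E C C' : CochainComplex (Spec (CommRingCat.of A)).Modules ℤ), DCoh.IsKFlat E →
      (DerivedCategory.Q.obj C ≅ DerivedCategory.Q.obj C') →
      Nonempty (DerivedCategory.Q.obj ((DCoh.tensorCx.obj C).obj E) ≅
        DerivedCategory.Q.obj ((DCoh.tensorCx.obj C').obj E)) := fun E C C' hE e =>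
    ⟨(@asIso _ _ _ _ _ (isIso_lTensorCounit_app_of_isKFlat E hE C)).symm ≪≫
      (DCoh.LTensorCx E).mapIso e ≪≫ @asIso _ _ _ _ _ (isIso_lTensorCounit_app_of_isKFlat E hE C')⟩
  obtain ⟨e₁⟩ := key Q _ _ hQ eK
  obtain ⟨e₂⟩ := key _ _ _ hK eL
  exact isQCohD_of_iso (e₂ ≪≫ DerivedCategory.Q.mapIso (tensorCxSymm _ _) ≪≫ e₁)
    (isQCohD_tensor_tilCx L K)

end Affine

variable {X : Scheme.{u}}

/-- The derived tensor product of objects with quasi-coherent cohomology has quasi-coherent cohomology. -/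
theorem isQCohD_lTensorCx (F : CochainComplex X.Modules ℤ) [DCoh.HasLTensorCx F]
    (hF : DCoh.IsQCohD (DCoh.toD X F)) (E : DCoh.D X) (hE : DCoh.IsQCohD E) :
    DCoh.IsQCohD ((DCoh.LTensorCx F).obj E) := by
  let P := (resX X).obj (DerivedCategory.Q.objPreimage E)
  let R := (resX X).obj F
  let e : DerivedCategory.Q.obj ((DCoh.tensorCx.obj P).obj R) ≅ (DCoh.LTensorCx F).obj E :=
    ((lTensorCxIsoQ F R ((resXπ X).app F) (quasiIso_resXπ F) (isKFlat_resX F)).app P).symm ≪≫
      (DCoh.LTensorCx F).mapIso (resXIso E)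
  have hex : ∀ x : X, ∃ W : X.Opens, IsAffineOpen W ∧ x ∈ W := fun x => by
    obtain ⟨W, hW, hx, -⟩ := Opens.isBasis_iff_nbhd.1 X.isBasis_affineOpens (Opens.mem_top x)
    exact ⟨W, hW, hx⟩
  choose W hW hxW using hex
  intro i
  refine isQCoh_of_restrict _ W hW (eq_top_iff.mpr fun x _ => Opens.mem_iSup.mpr ⟨x, hxW x⟩) fun a => ?_
  let j := (hW a).fromSpec
  haveI : PreservesColimitsOfSize.{0, 0} (Scheme.Modules.restrictFunctor j) :=
    (Scheme.Modules.restrictAdjunction j).leftAdjoint_preservesColimits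
  let r : (resCx j).obj ((DCoh.tensorCx.obj P).obj R) ≅
      (DCoh.tensorCx.obj ((resCx j).obj P)).obj ((resCx j).obj R) :=
    let ρ := NatIso.mapHomologicalComplex (Scheme.Modules.restrictFunctorIsoPullback j) (ComplexShape.up ℤ)
    ρ.app _ ≪≫ pullTensorCxIso j P R ≪≫ (DCoh.tensorCx.mapIso (ρ.app P).symm).app _ ≪≫
      (DCoh.tensorCx.obj _).mapIso (ρ.app R).symm
  have h : DCoh.IsQCohD ((DCoh.restrictD j).obj ((DCoh.LTensorCx F).obj E)) := by
    refine isQCohD_of_iso (DerivedCategory.Q.mapIso r.symm ≪≫ (restrictDQ j _).symm ≪≫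
      (DCoh.restrictD j).mapIso e)
      (isQCohD_tensor_affine _ _ (isKFlat_resCx_resX j _).1 (isKFlat_resCx_resX j _).1 ?_ ?_)
    · exact isQCohD_of_iso (((DCoh.restrictD j).mapIso (resXIso E)).symm ≪≫ restrictDQ j P)
        (isQCohD_restrict j E hE)
    · exact isQCohD_of_iso (((DCoh.restrictD j).mapIso
          (@asIso _ _ _ _ _ (isIso_Q_resXπ F))).symm ≪≫ restrictDQ j R) (isQCohD_restrict j _ hF)
  exact (SheafOfModules.isQuasicoherent (Spec Γ(X, W a)).ringCatSheaf).prop_of_iso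
    (restrictHDIso j i ((DCoh.LTensorCx F).obj E)) (h i)

end Groth.Agent.TildeD
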