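import Groth.Agent.KInj.DerivedAdj
import Groth.Agent.KInj.Products

/-!
# Derived adjunctions of exact left adjoints, and products in derived categories
-/

set_option autoImplicit false
set_option linter.style.haveILetI false

universe t w w' v u v₁ u₁

open CategoryTheory Limits

namespace Groth.Agent.TildeD

variable {B : Type u} [Category.{v} B] [Abelian B] [HasDerivedCategory.{w} B]
  (hres : ∀ K : CochainComplex B ℤ, ∃ (I : CochainComplex B ℤ) (f : K ⟶ I),
    I.IsKInjective ∧ QuasiIso f)

include hres in
theorem hasProductsOfShape_derived (T : Type t) [HasProductsOfShape T B] :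
    HasProductsOfShape T (DerivedCategory B) := by
  haveI : HasProductsOfShape T (CochainComplex B ℤ) := inferInstance
  haveI := KInj.hasProductsOfShape_homotopyCategory (V := B) (T := T)
  haveI := KInj.reflective hres
  exact hasLimitsOfShape_of_reflective (KInj.rightAdj hres)

variable {A : Type u₁} [Category.{v₁} A] [Abelian A] [HasDerivedCategory.{w'} A]

include hres in
/-- The functor induced by an exact left adjoint on derived categories is a left adjoint. -/
theorem exists_rightAdjoint {F : A ⥤ B} {G : B ⥤ A} (adj : F ⊣ G) [F.Additive] [G.Additive]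
    [PreservesFiniteLimits F] [PreservesFiniteColimits F] :
    ∃ RG : DerivedCategory B ⥤ DerivedCategory A, Nonempty (F.mapDerivedCategory ⊣ RG) := by
  let Φ := G.mapHomotopyCategory (ComplexShape.up ℤ) ⋙ DerivedCategory.Qh
  let RG := KInj.rightAdj hres ⋙ Φ
  let α : Φ ⟶ DerivedCategory.Qh ⋙ RG := KInj.derivedUnit hres Φ
  haveI : RG.IsRightDerivedFunctor α (HomotopyCategory.quasiIso B (ComplexShape.up ℤ)) :=
    KInj.isRightDerivedFunctor hres Φ
  let lf := F.mapDerivedCategoryFactorsh
  let W₁ := HomotopyCategory.quasiIso A (ComplexShape.up ℤ)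
  let W₂ := HomotopyCategory.quasiIso B (ComplexShape.up ℤ)
  haveI := Functor.isLeftDerivedFunctor_of_inverts (W := W₁) F.mapDerivedCategory lf
  haveI : (F.mapDerivedCategory ⋙ RG).IsLeftDerivedFunctor
      ((Functor.associator _ _ _).inv ≫ Functor.whiskerRight lf.hom RG) W₁ :=
    Functor.isLeftDerivedFunctor_of_inverts (W := W₁) (F.mapDerivedCategory ⋙ RG)
      ((Functor.associator _ _ _).symm ≪≫ Functor.isoWhiskerRight lf RG)
  haveI : (RG ⋙ F.mapDerivedCategory).IsRightDerivedFunctor
      (Functor.whiskerRight α F.mapDerivedCategory ≫ (Functor.associator _ _ _).hom) W₂ :=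
    KInj.isRightDerivedFunctor_of_isIso_h hres _ _ fun I hI => by
      haveI := hI
      haveI := KInj.isIso_app_of_isKInjective hres _ RG α I
      simp only [NatTrans.comp_app, Functor.associator_hom_app, Functor.whiskerRight_app]
      infer_instance
  exact ⟨RG, ⟨(KInj.homotopyAdjunction adj).derived W₁ W₂ lf.hom α⟩⟩

end Groth.Agent.TildeD
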