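import Mathlib

/-!
# Cohomology objects and exact functors between derived categories
-/

set_option autoImplicit false

universe w w' v v' u u'

open CategoryTheory Limits

noncomputable section

namespace Groth.Agent.TildeD

variable {A : Type u} [Category.{v} A] [Abelian A] {B : Type u'} [Category.{v'} B] [Abelian B]
  (F : A ⥤ B) [F.Additive] [PreservesFiniteLimits F] [PreservesFiniteColimits F]

/-- An exact functor commutes with the homology of complexes. -/
def homologyMapCxIso (q : ℤ) : F.mapHomologicalComplex (ComplexShape.up ℤ) ⋙
    HomologicalComplex.homologyFunctor B (ComplexShape.up ℤ) q ≅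
      HomologicalComplex.homologyFunctor A (ComplexShape.up ℤ) q ⋙ F :=
  NatIso.ofComponents (fun K => (K.sc q).mapHomologyIso F) fun {K L} φ =>
    ShortComplex.mapHomologyIso_hom_naturality
      ((HomologicalComplex.shortComplexFunctor A (ComplexShape.up ℤ) q).map φ) F

variable [HasDerivedCategory.{w} A] [HasDerivedCategory.{w'} B]

/-- An exact functor commutes with the cohomology of objects of derived categories. -/
def nu (q : ℤ) : F.mapDerivedCategory ⋙ DerivedCategory.homologyFunctor B q ≅
    DerivedCategory.homologyFunctor A q ⋙ F :=
  let e : DerivedCategory.Q ⋙ F.mapDerivedCategory ⋙ DerivedCategory.homologyFunctor B q ≅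
      DerivedCategory.Q ⋙ DerivedCategory.homologyFunctor A q ⋙ F :=
    (Functor.associator _ _ _).symm ≪≫
      Functor.isoWhiskerRight F.mapDerivedCategoryFactors _ ≪≫ Functor.associator _ _ _ ≪≫
      Functor.isoWhiskerLeft _ (DerivedCategory.homologyFunctorFactors B q) ≪≫
      homologyMapCxIso F q ≪≫
      Functor.isoWhiskerRight (DerivedCategory.homologyFunctorFactors A q).symm F ≪≫
      Functor.associator _ _ _
  Localization.liftNatIso DerivedCategory.Q (HomologicalComplex.quasiIso A (ComplexShape.up ℤ))
    (DerivedCategory.Q ⋙ F.mapDerivedCategory ⋙ DerivedCategory.homologyFunctor B q)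
    (DerivedCategory.Q ⋙ DerivedCategory.homologyFunctor A q ⋙ F) _ _ e

end Groth.Agent.TildeD
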