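import Groth.Agent.RlimCrit.ClBij
import Groth.Agent.RlimCrit.Sites
import Groth.Agent.TildeD.Homology
import Groth.Agent.TildeD.Adj
import Groth.Agent.CohBase.Affine
import Groth.Agent.S1007
import Groth.Prelude.Def_DCoh2

/-!
# The derived tilde functor
-/

set_option autoImplicit false
set_option linter.style.haveILetI false

universe u

open CategoryTheory Limits AlgebraicGeometry Opposite

attribute [local instance] HasDerivedCategory.standard

noncomputable section

namespace Groth.Agent.TildeD

open Groth.Agent.RlimCrit DerivedCategory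

section Module

variable (R : CommRingCat.{u})

/-- The ring as a functor on the point. -/
abbrev ptP : Discrete PUnit.{1} ⥤ ModuleCat.{u} R := (Functor.const _).obj (ModuleCat.of R R)

theorem isLocGen_module : IsLocGen (⊥ : GrothendieckTopology (Discrete PUnit.{1})) (ptP R) where
  lift {M N} e he {U} x := by
    refine ⟨⊤, GrothendieckTopology.top_mem _ _, fun V f _ => ?_⟩
    obtain ⟨m, hm⟩ := (ModuleCat.epi_iff_surjective e).1 he (x (1 : R))
    refine ⟨ModuleCat.ofHom (LinearMap.toSpanSingleton R M m), ?_⟩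
    ext
    show e (((1 : R)) • m) = x (1 : R)
    rw [one_smul, hm]
  sep {M U} x S hS h := by
    rw [GrothendieckTopology.bot_covering] at hS
    have := h (𝟙 U) (hS ▸ trivial)
    rwa [CategoryTheory.Functor.map_id, Category.id_comp] at this
  det {M N} k h := by
    ext m
    exact ((congrArg k (one_smul R m)).symm.trans (congrArg (fun z : ModuleCat.of R R ⟶ N => z (1 : R))
      (h ⟨PUnit.unit⟩ (ModuleCat.ofHom (LinearMap.toSpanSingleton R M m)))))

theorem cl_bijective_module (q : ℤ) (M : DerivedCategory (ModuleCat.{u} R)) :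
    Function.Bijective (cl : (sgl q (ModuleCat.of R R) ⟶ M) → _) := by
  constructor
  · intro ξ ξ' h
    refine sub_eq_zero.1 ?_
    obtain ⟨S, hS, hl⟩ := exists_local_zero (isLocGen_module R) (U := ⟨PUnit.unit⟩) (ξ - ξ')
      (by rw [cl_sub]; exact sub_eq_zero.2 h)
    rw [GrothendieckTopology.bot_covering] at hS
    have := hl (𝟙 _) (hS ▸ trivial)
    rwa [CategoryTheory.Functor.map_id, sglMap, CategoryTheory.Functor.map_id,
      CategoryTheory.Functor.map_id, Category.id_comp] at this
  · intro x
    obtain ⟨S, hS, hl⟩ := exists_local_class (isLocGen_module R) (U := ⟨PUnit.unit⟩) x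
    rw [GrothendieckTopology.bot_covering] at hS
    obtain ⟨ξ, hξ⟩ := hl (𝟙 _) (hS ▸ trivial)
    exact ⟨ξ, by rw [hξ, CategoryTheory.Functor.map_id, Category.id_comp]⟩

/-- An isomorphism of modules is detected by maps out of the ring. -/
theorem isIso_of_bijective {M N : ModuleCat.{u} R} (f : M ⟶ N)
    (h : Function.Bijective fun x : ModuleCat.of R R ⟶ M => x ≫ f) : IsIso f := by
  rw [ConcreteCategory.isIso_iff_bijective]
  refine ⟨fun a b hab => ?_, fun n => ?_⟩
  · have := h.1 (show ModuleCat.ofHom (LinearMap.toSpanSingleton R M a) ≫ f =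
        ModuleCat.ofHom (LinearMap.toSpanSingleton R M b) ≫ f by
      ext
      show f ((1 : R) • a) = f ((1 : R) • b)
      rw [one_smul, one_smul, hab])
    exact (one_smul R a).symm.trans
      ((congrArg (fun z : ModuleCat.of R R ⟶ M => z (1 : R)) this).trans (one_smul R b))
  · obtain ⟨x, hx⟩ := h.2 (ModuleCat.ofHom (LinearMap.toSpanSingleton R N n))
    exact ⟨x (1 : R), (congrArg (fun z : ModuleCat.of R R ⟶ N => z (1 : R)) hx).trans (one_smul R n)⟩

/-- Isomorphisms in `D(R)` are detected by shifted copies of the ring. -/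
theorem isIso_of_bijective_sgl {M N : DerivedCategory (ModuleCat.{u} R)} (f : M ⟶ N)
    (h : ∀ q : ℤ, Function.Bijective fun g : sgl q (ModuleCat.of R R) ⟶ M => g ≫ f) : IsIso f := by
  rw [DerivedCategory.isIso_iff]
  intro q
  refine isIso_of_bijective R _ ?_
  refine (Function.Bijective.of_comp_iff _ (cl_bijective_module R q M)).1 ?_
  have : (fun x : ModuleCat.of R R ⟶ _ => x ≫ (homologyFunctor _ q).map f) ∘ cl =
      cl ∘ fun g : sgl q (ModuleCat.of R R) ⟶ M => g ≫ f := funext fun g => (cl_comp g f).symm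
  rw [this]
  exact (cl_bijective_module R q N).comp (h q)

end Module

section Affine

variable (R : CommRingCat.{u})

theorem hresSpec : ∀ K : CochainComplex (Spec R).Modules ℤ,
    ∃ (I : CochainComplex (Spec R).Modules ℤ) (f : K ⟶ I), I.IsKInjective ∧ QuasiIso f :=
  haveI : IsGrothendieckAbelian.{u} (Spec R).Modules :=
    ModTensor.isGrothendieckAbelian_mod (C := TopologicalSpace.Opens (Spec R)) (Spec R).sheaf
  KInj.hres_of_isGrothendieckAbelian _

/-- The structure sheaf. -/
abbrev OSpec : (Spec R).Modules := tilde (ModuleCat.of R R)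

theorem subsingleton_ext_OSpec [HasExt.{u} (Spec R).Modules] (F : (Spec R).Modules) [Coh.IsQCoh F]
    (k : ℕ) (hk : 0 < k) : Subsingleton (Abelian.Ext.{u} (OSpec R) F k) := by
  obtain ⟨k, rfl⟩ : ∃ k', k = k' + 1 := ⟨k - 1, by omega⟩
  obtain ⟨e⟩ := SiteBase.nonempty_ext_unit_H (Spec R).ringCatSheaf F (k + 1)
  haveI : Subsingleton (Sheaf.H.{u} ((SheafOfModules.toSheaf (Spec R).ringCatSheaf).obj F) (k + 1)) :=
    CohBase.subsingleton_HH F (k + 1) (CohBase.affine_vanishing F (isAffineOpen_top (Spec R)) k)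
  exact e.toEquiv.subsingleton

theorem cl_bijective_qcoh (q : ℤ) (K : DCoh.D (Spec R)) (hK : DCoh.IsQCohD K) :
    Function.Bijective (cl : (sgl q (OSpec R) ⟶ K) → _) := by
  haveI : IsGrothendieckAbelian.{u} (Spec R).Modules :=
    ModTensor.isGrothendieckAbelian_mod (C := TopologicalSpace.Opens (Spec R)) (Spec R).sheaf
  haveI : HasExt.{u} (Spec R).Modules := inferInstance
  haveI := hasProductsOfShape_derived (hresSpec R) ℕ
  haveI hp : HasProduct (CohCx.truncTower K) := inferInstance
  refine cl_bijective.{u} (OSpec R) q K ?_ fun i k hk => ?_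
  · exact Groth.Agent.S1007.result (Spec R) K hK
  · haveI : Coh.IsQCoh ((homologyFunctor (Spec R).Modules i).obj K) := hK i
    exact subsingleton_ext_OSpec R _ k hk

theorem qcoh_exists_tilde (M : (Spec R).Modules) [hM : Coh.IsQCoh M] :
    ∃ N : ModuleCat.{u} R, Nonempty (tilde N ≅ M) := by
  have h : (tilde.functor R).essImage M := by
    rw [essImage_tilde]
    exact hM
  obtain ⟨N, ⟨e⟩⟩ := h
  exact ⟨N, ⟨e⟩⟩

/-- Isomorphisms of quasi-coherent sheaves are detected on global sections. -/
theorem isIso_of_bijective_qcoh {M N : (Spec R).Modules} [Coh.IsQCoh M] [Coh.IsQCoh N] (f : M ⟶ N)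
    (h : Function.Bijective fun x : OSpec R ⟶ M => x ≫ f) : IsIso f := by
  obtain ⟨M', ⟨eM⟩⟩ := qcoh_exists_tilde R M
  obtain ⟨N', ⟨eN⟩⟩ := qcoh_exists_tilde R N
  let eM' : (tilde.functor R).obj M' ≅ M := eM
  let eN' : (tilde.functor R).obj N' ≅ N := eN
  obtain ⟨g, hg⟩ := (tilde.functor R).map_surjective (eM'.hom ≫ f ≫ eN'.inv)
  let ff := tilde.fullyFaithfulFunctor (R := R)
  haveI : IsIso g := isIso_of_bijective R g (by
    let aM : (ModuleCat.of R R ⟶ M') ≃ (OSpec R ⟶ M) := ff.homEquiv.trans eM'.homToEquiv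
    let aN : (ModuleCat.of R R ⟶ N') ≃ (OSpec R ⟶ N) := ff.homEquiv.trans eN'.homToEquiv
    have : aN ∘ (fun x : ModuleCat.of R R ⟶ M' => x ≫ g) = (fun x => x ≫ f) ∘ aM := funext fun x => by
      show (tilde.functor R).map (x ≫ g) ≫ eN'.hom = ((tilde.functor R).map x ≫ eM'.hom) ≫ f
      rw [Functor.map_comp, hg]
      simp
    exact (Function.Bijective.of_comp_iff' aN.bijective _).1 (this ▸ h.comp aM.bijective))
  have : f = eM'.inv ≫ (tilde.functor R).map g ≫ eN'.hom := by rw [hg]; simp
  rw [this]
  infer_instance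

variable [PreservesFiniteLimits (tilde.functor R)]

/-- Cohomology of the derived tilde functor. -/
abbrev nuT (q : ℤ) : DCoh.tildeD R ⋙ homologyFunctor (Spec R).Modules q ≅
    homologyFunctor (ModuleCat.{u} R) q ⋙ tilde.functor R :=
  nu (tilde.functor R) q

theorem isQCohD_tildeD (M : DerivedCategory (ModuleCat.{u} R)) :
    DCoh.IsQCohD ((DCoh.tildeD R).obj M) := fun i =>
  (SheafOfModules.isQuasicoherent (Spec R).ringCatSheaf).prop_of_iso ((nuT R i).app M).symm
    (inferInstance : ((tilde.functor R).obj _).IsQuasicoherent)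

theorem exists_iso_sgl (q : ℤ) :
    Nonempty ((DCoh.tildeD R).obj (sgl q (ModuleCat.of R R)) ≅ sgl q (OSpec R)) := by
  let S : DerivedCategory (ModuleCat.{u} R) := (singleFunctor (ModuleCat.{u} R) q).obj (ModuleCat.of R R)
  let TS := (DCoh.tildeD R).obj S
  haveI : TS.IsGE q := (isGE_iff _ _).2 fun i hi =>
    ((tilde.functor R).map_isZero (isZero_of_isGE S q i hi)).of_iso ((nuT R i).app S)
  haveI : TS.IsLE q := (isLE_iff _ _).2 fun i hi =>
    ((tilde.functor R).map_isZero (isZero_of_isLE S q i hi)).of_iso ((nuT R i).app S)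
  obtain ⟨W, ⟨e⟩⟩ := exists_iso_singleFunctor_obj_of_isGE_of_isLE TS q
  let eW : W ≅ OSpec R := ((singleFunctorCompHomologyFunctorIso _ q).app W).symm ≪≫
    (homologyFunctor _ q).mapIso e.symm ≪≫ (nuT R q).app S ≪≫
      (tilde.functor R).mapIso ((singleFunctorCompHomologyFunctorIso (ModuleCat.{u} R) q).app (ModuleCat.of R R))
  exact ⟨e ≪≫ (singleFunctor _ q).mapIso eW⟩

/-- Morphisms out of `T R[-q]` to quasi-coherent objects are detected by `H^q`. -/
theorem homology_map_bijective_qcoh (q : ℤ) (K : DCoh.D (Spec R)) (hK : DCoh.IsQCohD K) :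
    Function.Bijective fun h : (DCoh.tildeD R).obj (sgl q (ModuleCat.of R R)) ⟶ K =>
      (homologyFunctor (Spec R).Modules q).map h := by
  obtain ⟨e⟩ := exists_iso_sgl R q
  let c : OSpec R ≅ (homologyFunctor (Spec R).Modules q).obj ((DCoh.tildeD R).obj (sgl q (ModuleCat.of R R))) :=
    (HomologicalComplex.singleObjHomologySelfIso (ComplexShape.up ℤ) q (OSpec R)).symm ≪≫
      ff q _ ≪≫ (homologyFunctor _ q).mapIso e.symm
  have : (fun x => c.hom ≫ x) ∘ (fun h : (DCoh.tildeD R).obj (sgl q (ModuleCat.of R R)) ⟶ K =>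
      (homologyFunctor (Spec R).Modules q).map h) = cl ∘ (fun h => e.inv ≫ h) := funext fun h => by
    show c.hom ≫ _ = cl (e.inv ≫ h)
    simp [c, cl]
    rfl
  have hc : Function.Bijective fun x : (homologyFunctor (Spec R).Modules q).obj _ ⟶
      (homologyFunctor (Spec R).Modules q).obj K => c.hom ≫ x := c.symm.homFromEquiv.bijective
  exact (Function.Bijective.of_comp_iff' hc _).1
    (this ▸ (cl_bijective_qcoh R q K hK).comp e.homFromEquiv.bijective)

omit [PreservesFiniteLimits (tilde.functor R)] in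
theorem homology_map_bijective_module (q : ℤ) (M : DerivedCategory (ModuleCat.{u} R)) :
    Function.Bijective fun g : sgl q (ModuleCat.of R R) ⟶ M => (homologyFunctor _ q).map g := by
  let c := (HomologicalComplex.singleObjHomologySelfIso (ComplexShape.up ℤ) q (ModuleCat.of R R)).symm ≪≫
      ff q _
  have : (fun x => c.hom ≫ x) ∘ (fun g : sgl q (ModuleCat.of R R) ⟶ M => (homologyFunctor _ q).map g) = cl :=
    funext fun g => by simp [c, cl]
  exact (Function.Bijective.of_comp_iff' c.symm.homFromEquiv.bijective _).1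
    (this.symm ▸ cl_bijective_module R q M)

theorem map_bijective_sgl (q : ℤ) (M : DerivedCategory (ModuleCat.{u} R)) :
    Function.Bijective fun g : sgl q (ModuleCat.of R R) ⟶ M => (DCoh.tildeD R).map g := by
  let S := sgl q (ModuleCat.of R R)
  let aS := (nuT R q).app S
  let aM := (nuT R q).app M
  have : (fun h : (DCoh.tildeD R).obj S ⟶ (DCoh.tildeD R).obj M => (homologyFunctor _ q).map h) ∘
      (fun g : S ⟶ M => (DCoh.tildeD R).map g) =
      (Iso.homCongr aS.symm aM.symm) ∘ tilde.fullyFaithfulFunctor.homEquiv ∘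
        (fun g : S ⟶ M => (homologyFunctor _ q).map g) := funext fun g => by
    show _ = aS.hom ≫ (tilde.functor R).map ((homologyFunctor _ q).map g) ≫ aM.inv
    rw [← Category.assoc, Iso.eq_comp_inv]
    exact (nuT R q).hom.naturality g
  exact (Function.Bijective.of_comp_iff'
    (homology_map_bijective_qcoh R q _ (isQCohD_tildeD R M)) _).1
    (this ▸ (Equiv.bijective _).comp
      ((tilde.fullyFaithfulFunctor.homEquiv).bijective.comp (homology_map_bijective_module R q M)))

/-- The derived tilde functor is fully faithful with essential image the objects with quasi-coherent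
cohomology. -/
theorem main : (DCoh.tildeD R).Full ∧ (DCoh.tildeD R).Faithful ∧
    ∀ K : DCoh.D (Spec R), DCoh.IsQCohD K ↔ ∃ M, Nonempty ((DCoh.tildeD R).obj M ≅ K) := by
  haveI : (tilde.functor R).Additive := ⟨fun {M N f g} => tilde.map_add f g⟩
  haveI : PreservesColimitsOfSize.{0, 0} (tilde.functor R) :=
    (tilde.adjunction (R := R)).leftAdjoint_preservesColimits
  haveI : PreservesFiniteColimits (tilde.functor R) :=
    PreservesColimitsOfSize.preservesFiniteColimits _
  haveI : (moduleSpecΓFunctor (R := R)).Additive := (tilde.adjunction (R := R)).right_adjoint_additive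
  obtain ⟨RG, ⟨adj⟩⟩ := exists_rightAdjoint (hresSpec R) (tilde.adjunction (R := R))
  change DCoh.tildeD R ⊣ RG at adj
  have hu : ∀ M, IsIso (adj.unit.app M) := fun M => by
    refine isIso_of_bijective_sgl R _ fun q => ?_
    have : (fun g : sgl q (ModuleCat.of R R) ⟶ M => g ≫ adj.unit.app M) =
        adj.homEquiv _ _ ∘ fun g => (DCoh.tildeD R).map g := funext fun g => by
      show g ≫ adj.unit.app M = adj.homEquiv _ _ ((DCoh.tildeD R).map g)
      rw [adj.homEquiv_unit]
      exact adj.unit.naturality g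
    exact (congrArg Function.Bijective this).mpr ((Equiv.bijective _).comp (map_bijective_sgl R q M))
  haveI : IsIso adj.unit := NatIso.isIso_of_isIso_app _
  have hff := adj.fullyFaithfulLOfIsIsoUnit
  refine ⟨hff.full, hff.faithful, fun K => ⟨fun hK => ?_, ?_⟩⟩
  · refine ⟨RG.obj K, ?_⟩
    haveI : IsIso (adj.counit.app K) := by
      rw [DerivedCategory.isIso_iff]
      intro q
      refine @isIso_of_bijective_qcoh R _ _ (isQCohD_tildeD R (RG.obj K) q) (hK q) _ ?_
      obtain ⟨e⟩ := exists_iso_sgl R q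
      have h1 : Function.Bijective fun h : sgl q (OSpec R) ⟶ (DCoh.tildeD R).obj (RG.obj K) =>
          h ≫ adj.counit.app K := by
        have h2 : Function.Bijective fun h : (DCoh.tildeD R).obj (sgl q (ModuleCat.of R R)) ⟶
            (DCoh.tildeD R).obj (RG.obj K) => h ≫ adj.counit.app K := by
          refine (Function.Bijective.of_comp_iff _ (map_bijective_sgl R q _)).1 ?_
          have : (fun h => h ≫ adj.counit.app K) ∘
              (fun g : sgl q (ModuleCat.of R R) ⟶ RG.obj K => (DCoh.tildeD R).map g) =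
              (adj.homEquiv _ _).symm := funext fun g => (adj.homEquiv_counit _ _ _).symm
          exact this ▸ Equiv.bijective _
        have : (fun h : sgl q (OSpec R) ⟶ (DCoh.tildeD R).obj (RG.obj K) => h ≫ adj.counit.app K) =
            e.homFromEquiv ∘ (fun h => h ≫ adj.counit.app K) ∘ e.symm.homFromEquiv :=
          funext fun h => (by
            show h ≫ adj.counit.app K = e.inv ≫ ((e.hom ≫ h) ≫ adj.counit.app K)
            exact ((congrArg (e.inv ≫ ·) (Category.assoc _ _ _)).trans (e.inv_hom_id_assoc _)).symm)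
        exact (congrArg Function.Bijective this).mpr
          ((Equiv.bijective _).comp (h2.comp (Equiv.bijective _)))
      refine (Function.Bijective.of_comp_iff _
        (cl_bijective_qcoh R q _ (isQCohD_tildeD R (RG.obj K)))).1 ?_
      have : (fun x : OSpec R ⟶ _ => x ≫ (homologyFunctor _ q).map (adj.counit.app K)) ∘ cl =
          cl ∘ fun h : sgl q (OSpec R) ⟶ (DCoh.tildeD R).obj (RG.obj K) => h ≫ adj.counit.app K :=
        funext fun h => (cl_comp h _).symm
      exact (congrArg Function.Bijective this).mpr ((cl_bijective_qcoh R q K hK).comp h1)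
    exact ⟨asIso (adj.counit.app K)⟩
  · rintro ⟨M, ⟨e⟩⟩ i
    exact (SheafOfModules.isQuasicoherent (Spec R).ringCatSheaf).prop_of_iso
      ((homologyFunctor (Spec R).Modules i).mapIso e) (isQCohD_tildeD R M i)

end Affine

end Groth.Agent.TildeD
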